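import Cfsg.Agent.Lib.CosetEnum.Fi23Centre.TabT_Data0

/-! Generated certificate. -/

set_option autoImplicit false
set_option maxRecDepth 20000

namespace Cfsg.Lib.CosetEnum.Fi23Centre

/-- Table. -/
def tabT : Tab :=
  tabT_0

/-- The central word. -/
def centreWord : List Nat :=
  [8, 6, 5, 4, 3, 2, 1, 8, 6, 5, 4, 3, 2, 1, 8, 6, 5, 4, 3, 2, 1, 8, 6, 5, 4, 3, 2, 1, 8, 6, 5, 4, 3, 2, 1, 8, 6, 5, 4, 3, 2, 1, 8, 6, 5, 4, 3, 2, 1, 8, 6, 5, 4, 3, 2, 1, 8, 6, 5, 4, 3, 2, 1]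

/-- The generators of the subgroup. -/
def letters : List Nat :=
  [0, 1, 2, 3, 4, 5, 6, 8, 9]

end Cfsg.Lib.CosetEnum.Fi23Centre
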