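import Cfsg.Agent.Lib.CosetEnum.Fi23Centre.Data
import Cfsg.Agent.Lib.CosetEnum.Fi23Fi22.Data
import Cfsg.Agent.Lib.CosetEnum.ImageTab

/-! Generated certificate. -/

set_option autoImplicit false
set_option maxRecDepth 20000

namespace Cfsg.Lib.CosetEnum.Fi23Centre

theorem centre42 : centreOK Fi23Fi22.tabP tabT 10 31671 centreWord letters 700 29400 = true := by
  decide +kernel

theorem centre43 : centreOK Fi23Fi22.tabP tabT 10 31671 centreWord letters 700 30100 = true := by
  decide +kernel

theorem centre44 : centreOK Fi23Fi22.tabP tabT 10 31671 centreWord letters 700 30800 = true := by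
  decide +kernel

theorem centre45 : centreOK Fi23Fi22.tabP tabT 10 31671 centreWord letters 171 31500 = true := by
  decide +kernel

end Cfsg.Lib.CosetEnum.Fi23Centre
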