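import Cfsg.Agent.Lib.CosetEnum.Fi23Centre.Part0
import Cfsg.Agent.Lib.CosetEnum.Fi23Centre.Part1
import Cfsg.Agent.Lib.CosetEnum.Fi23Centre.Part2
import Cfsg.Agent.Lib.CosetEnum.Fi23Centre.Part3
import Cfsg.Agent.Lib.CosetEnum.Fi23Centre.Part4
import Cfsg.Agent.Lib.CosetEnum.Fi23Centre.Part5
import Cfsg.Agent.Lib.CosetEnum.Fi23Centre.Part6
import Cfsg.Agent.Lib.CosetEnum.Fi23Centre.Part7

/-! Generated certificate. -/

set_option autoImplicit false
set_option maxRecDepth 20000

namespace Cfsg.Lib.CosetEnum.Fi23Centre

theorem centre_ok : centreOK Fi23Fi22.tabP tabT 10 31671 centreWord letters 31671 0 = true :=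
  (centreOK_append (a := 16100) (b := 15571) (centreOK_append (a := 7700) (b := 8400) (centreOK_append (a := 3500) (b := 4200) (centreOK_append (a := 1400) (b := 2100) (centreOK_append (a := 700) (b := 700) centre0 centre1) (centreOK_append (a := 700) (b := 1400) centre2 (centreOK_append (a := 700) (b := 700) centre3 centre4))) (centreOK_append (a := 2100) (b := 2100) (centreOK_append (a := 700) (b := 1400) centre5 (centreOK_append (a := 700) (b := 700) centre6 centre7)) (centreOK_append (a := 700) (b := 1400) centre8 (centreOK_append (a := 700) (b := 700) centre9 centre10)))) (centreOK_append (a := 4200) (b := 4200) (centreOK_append (a := 2100) (b := 2100) (centreOK_append (a := 700) (b := 1400) centre11 (centreOK_append (a := 700) (b := 700) centre12 centre13)) (centreOK_append (a := 700) (b := 1400) centre14 (centreOK_append (a := 700) (b := 700) centre15 centre16))) (centreOK_append (a := 2100) (b := 2100) (centreOK_append (a := 700) (b := 1400) centre17 (centreOK_append (a := 700) (b := 700) centre18 centre19)) (centreOK_append (a := 700) (b := 1400) centre20 (centreOK_append (a := 700) (b := 700) centre21 centre22))))) (centreOK_append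 (a := 7700) (b := 7871) (centreOK_append (a := 3500) (b := 4200) (centreOK_append (a := 1400) (b := 2100) (centreOK_append (a := 700) (b := 700) centre23 centre24) (centreOK_append (a := 700) (b := 1400) centre25 (centreOK_append (a := 700) (b := 700) centre26 centre27))) (centreOK_append (a := 2100) (b := 2100) (centreOK_append (a := 700) (b := 1400) centre28 (centreOK_append (a := 700) (b := 700) centre29 centre30)) (centreOK_append (a := 700) (b := 1400) centre31 (centreOK_append (a := 700) (b := 700) centre32 centre33)))) (centreOK_append (a := 4200) (b := 3671) (centreOK_append (a := 2100) (b := 2100) (centreOK_append (a := 700) (b := 1400) centre34 (centreOK_append (a := 700) (b := 700) centre35 centre36)) (centreOK_append (a := 700) (b := 1400) centre37 (centreOK_append (a := 700) (b := 700) centre38 centre39))) (centreOK_append (a := 2100) (b := 1571) (centreOK_append (a := 700) (b := 1400) centre40 (centreOK_append (a := 700) (b := 700) centre41 centre42)) (centreOK_append (a := 700) (b := 871) centre43 (centreOK_append (a := 700) (b := 171) centre44 centre45))))))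

end Cfsg.Lib.CosetEnum.Fi23Centre
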